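import Cfsg.Agent.S0243
import Cfsg.Agent.S0813
import Cfsg.Agent.S2061
import Cfsg.Agent.S2062
import Cfsg.Agent.NotCT.Orders
import Cfsg.Agent.H419.EP.Soc
import Cfsg.Agent.H117.EP.ModelPSL
import Cfsg.Agent.H729.EPM.Crude
import Cfsg.Agent.H59.EP.UB
import Cfsg.Agent.CoThreeStd.AutFacts
import Cfsg.Agent.SporadicA.MathieuRecog
import Cfsg.Agent.ClassicalGeometry.PSL2Basic

/-!
# S3499, layer IV, the row `PSL₁₀(q)`, residual class (helper837)
-/

set_option autoImplicit false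

namespace Cfsg.Agent.H837.EP.L10

open Cfsg Subgroup Cfsg.Agent.H284 Cfsg.Agent.H419.EP
open scoped MatrixGroups

/-- two models of the same matrix group are isomorphic -/
theorem model_unique {Q Q' : Type*} [Group Q] [Group Q'] {ι : Type} [Fintype ι] [DecidableEq ι] {F : Type*} [Field F]
    {S : Subgroup (GL ι F)} (m : Model Q S) (m' : Model Q' S) : Nonempty (Q ≃* Q') := by
  have hk : m.π.ker = m'.π.ker := by
    ext s
    rw [MonoidHom.mem_ker, MonoidHom.mem_ker, m.ker, m'.ker]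
  exact ⟨(QuotientGroup.quotientKerEquivOfSurjective m.π m.surj).symm.trans
    ((QuotientGroup.quotientMulEquivOfEq hk).trans (QuotientGroup.quotientKerEquivOfSurjective m'.π m'.surj))⟩

/-- `|PSL₁₀(q)| ≥ q⁹⁰` -/
theorem card_psl_ge {F : Type*} [Field F] [Fintype F] {q : ℕ} (hF : Fintype.card F = q) :
    q ^ 90 ≤ Nat.card (Matrix.ProjectiveSpecialLinearGroup (Fin 10) F) := by
  have hq : 2 ≤ q := by rw [← hF]; exact Fintype.one_lt_card
  have h := Cfsg.Agent.S0243.result hF 10 (by norm_num)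
  obtain ⟨r, rfl⟩ : ∃ r, q = r + 1 := ⟨q - 1, by omega⟩
  have hr : 1 ≤ r := by omega
  rw [Nat.add_sub_cancel] at h
  have h1 : Nat.gcd 10 r ≤ r := Nat.le_of_dvd hr (Nat.gcd_dvd_right _ _)
  have h2 : ∏ i : Fin 10, r * (r + 1) ^ 9 ≤ ∏ i : Fin 10, ((r + 1) ^ 10 - (r + 1) ^ (i : ℕ)) := by
    apply Finset.prod_le_prod'
    intro i _
    have h3 : (r + 1) ^ (i : ℕ) ≤ (r + 1) ^ 9 := Nat.pow_le_pow_right (by omega) (by have := i.2; omega)
    have h4 : (r + 1) ^ 10 = r * (r + 1) ^ 9 + (r + 1) ^ 9 := by ring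
    omega
  rw [Finset.prod_const, Finset.card_univ, Fintype.card_fin, ← h] at h2
  set c := Nat.card (Matrix.ProjectiveSpecialLinearGroup (Fin 10) F) with hc
  have h3 : Nat.gcd 10 r * (r * c) ≤ r * (r * c) := Nat.mul_le_mul_right _ h1
  have h4 : r ^ 2 * (r + 1) ^ 90 ≤ r ^ 2 * c := by
    calc r ^ 2 * (r + 1) ^ 90 ≤ r ^ 10 * (r + 1) ^ 90 :=
          Nat.mul_le_mul_right _ (Nat.pow_le_pow_right hr (by norm_num))
      _ = (r * (r + 1) ^ 9) ^ 10 := by ring
      _ ≤ r * (r * c) := h2.trans h3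
      _ = r ^ 2 * c := by ring
  exact Nat.le_of_mul_le_mul_left h4 (by positivity)

/-- `|PSL₁₀(2)|` -/
theorem card_psl_two {F : Type*} [Field F] [Fintype F] (hF : Fintype.card F = 2) :
    366440137299948128422802227200 = Nat.card (Matrix.ProjectiveSpecialLinearGroup (Fin 10) F) := by
  have h := Cfsg.Agent.S0243.result hF 10 (by norm_num)
  rw [Fin.prod_univ_eq_prod_range (fun i => 2 ^ 10 - 2 ^ i) 10] at h
  simp only [Finset.prod_range_succ, Finset.prod_range_zero] at h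
  norm_num at h
  exact h.symm

theorem card_aut_le (S : Type) [Group S] [Finite S] : Nat.card (MulAut S) ≤ Nat.card (Cfsg.Out S) * Nat.card S := by
  have h1 : Nat.card (MulAut S) = Nat.card (Cfsg.Out S) * Nat.card (Inn S) :=
    Subgroup.card_eq_card_quotient_mul_card_subgroup (Inn S)
  rw [h1]
  exact Nat.mul_le_mul_left _ (Nat.card_le_card_of_surjective (MulAut.conj : S →* MulAut S).rangeRestrict
    (MonoidHom.rangeRestrict_surjective _))

theorem aut_m12 : Nat.card (MulAut Spor.M12) ≤ 190080 := by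
  have h1 := card_aut_le Spor.M12
  rw [Cfsg.Agent.S2061.result, Cfsg.Agent.NotCT.Orders.m12 ⟨MulEquiv.refl _⟩] at h1
  exact h1

theorem aut_m22 : Nat.card (MulAut Spor.M22) ≤ 887040 := by
  have h1 := card_aut_le Spor.M22
  rw [Cfsg.Agent.S2062.result, Cfsg.Agent.NotCT.Orders.m22 ⟨MulEquiv.refl _⟩] at h1
  exact h1

theorem notcomm {L : Type*} [Group L] (hs : IsSimpleGroup L) (hp : ¬ (Nat.card L).Prime) :
    ¬ ∀ a b : L, a * b = b * a := by
  intro h
  let _ : CommGroup L := { (inferInstance : Group L) with mul_comm := h }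
  exact hp IsSimpleGroup.prime_card

theorem prime19 : Nat.Prime 19 := by norm_num

local instance fact19 : Fact (Nat.Prime 19) := ⟨prime19⟩

theorem aut_l19 : Nat.card (MulAut (Matrix.ProjectiveSpecialLinearGroup (Fin 2) (ZMod 19))) = 6840 := by
  have h := Cfsg.Agent.S0813.result (F := ZMod 19) 19 1 le_rfl (by rw [ZMod.card, pow_one]) 2 le_rfl (by norm_num)
  rw [h, Cfsg.Agent.ClassicalGeometry.PSL2Basic.card_PGL2, if_pos rfl, ZMod.card]
  norm_num

/-- the number of two-point stabilisers -/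
noncomputable abbrev rr {Q : Type*} [Group Q] (A : Subgroup Q) : ℕ := {M : Subgroup Q | ∃ x, x ∉ A ∧ M = A ⊓ cj x A}.ncard

theorem card_le_of_rr {Q : Type*} [Group Q] [Finite Q] {A : Subgroup Q} {Γ : Subgroup (MulAut Q)} (h : EPT A Γ) {a r : ℕ}
    (hA : Nat.card A ≤ a) (hr : rr A ≤ r) : Nat.card Q ≤ a * r ^ 2 := by
  rw [← A.card_mul_index]
  exact Nat.mul_le_mul hA (h.index_le.trans (Nat.pow_le_pow_left hr 2))

theorem card_l19 : Nat.card (Matrix.ProjectiveSpecialLinearGroup (Fin 2) (ZMod 19)) = 3420 := by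
  have h := Cfsg.Agent.ClassicalGeometry.PSL2Basic.card_PSL2_odd (F := ZMod 19) (by rw [ZMod.card]; decide)
  rw [ZMod.card] at h
  omega

theorem kill_l19 {Q : Type*} [Group Q] [Finite Q] {A : Subgroup Q} {Γ : Subgroup (MulAut Q)} (h : EPT A Γ)
    (hs : HasSoc A (Matrix.ProjectiveSpecialLinearGroup (Fin 2) (ZMod 19))) : Nat.card Q ≤ 6840 ^ 13 := by
  have h1 := hs.card_le
  rw [aut_l19] at h1
  have h2 := hs.card_dvd
  rw [card_l19] at h2
  have h3 : Nat.card A ∣ 6840 := by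
    obtain ⟨k, hk⟩ := h2
    have hk0 : Nat.card A ≠ 0 := Nat.card_pos.ne'
    have h4 : k ≤ 2 := by omega
    interval_cases k
    · omega
    · rw [hk]; norm_num
    · rw [hk]
  have h5 : (6840 : ℕ).primeFactorsList = [2, 2, 2, 3, 3, 5, 19] := by
    symm
    exact ((Nat.primeFactorsList_unique (by norm_num) (by
      intro p hp
      simp only [List.mem_cons, List.not_mem_nil, or_false] at hp
      rcases hp with rfl | rfl | rfl | rfl | rfl | rfl | rfl <;> norm_num)).eq_of_pairwise (by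
        intro a b _ _ h1 h2; exact le_antisymm h1 h2) (by decide) (Nat.primeFactorsList_sorted 6840).pairwise)
  have h6 : ArithmeticFunction.cardFactors 6840 ≤ 6 + 1 := by
    rw [ArithmeticFunction.cardFactors_apply, h5]
    decide
  have h7 := Cfsg.Agent.H729.EPM.crude h (by norm_num) h3 h6
  calc Nat.card Q ≤ 6840 * (6840 ^ 6) ^ 2 := h7
    _ = 6840 ^ 13 := by norm_num

open Cfsg.Agent.H59.EP in
theorem rr12 {Q : Type} [Group Q] [Finite Q] {A : Subgroup Q} {Γ : Subgroup (MulAut Q)} (h : EPT A Γ)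
    (hg : TwoGen.{0}) (hs : HasSoc A Spor.M12) : rr A ≤ 10 ^ 11 := by
  have hsimp : IsSimpleGroup Spor.M12 := Cfsg.Agent.CoThreeStd.AutFacts.facts.simple
  have hcard : Nat.card Spor.M12 = 95040 := Cfsg.Agent.NotCT.Orders.m12 ⟨MulEquiv.refl _⟩
  have hab : ∀ K : Subgroup Q, K ≤ A → (∀ a ∈ A, ∀ k ∈ K, a * k * a⁻¹ ∈ K) → (∀ a ∈ K, ∀ b ∈ K, a * b = b * a) →
      K = ⊥ := fun K h1 h2 h3 => hs.no_abelian hsimp (notcomm hsimp (by rw [hcard]; norm_num)) h1 h2 h3
  have h1 := hs.card_le.trans aut_m12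
  obtain ⟨k, hk⟩ := hs.card_dvd
  rw [hcard] at hk
  have hk0 : Nat.card A ≠ 0 := Nat.card_pos.ne'
  have h4 : k ≤ 2 := by omega
  interval_cases k
  · omega
  · have h5 := EPT.ncard_le_list h hg hab [(2, 6), (3, 3), (5, 1), (11, 1)] (by decide) (by decide) (by decide)
      (by rw [hk]; decide)
    rw [hk, show ([(2, 6), (3, 3), (5, 1), (11, 1)].map fun x : ℕ × ℕ => gal x.1 x.2).sum = 2853 by decide] at h5
    exact h5.trans (by norm_num)
  · have h5 := EPT.ncard_le_list h hg hab [(2, 7), (3, 3), (5, 1), (11, 1)] (by decide) (by decide) (by decide)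
      (by rw [hk]; decide)
    rw [hk, show ([(2, 7), (3, 3), (5, 1), (11, 1)].map fun x : ℕ × ℕ => gal x.1 x.2).sum = 29240 by decide] at h5
    exact h5.trans (by norm_num)

open Cfsg.Agent.H59.EP in
theorem rr22 {Q : Type} [Group Q] [Finite Q] {A : Subgroup Q} {Γ : Subgroup (MulAut Q)} (h : EPT A Γ)
    (hg : TwoGen.{0}) (hs : HasSoc A Spor.M22) : rr A ≤ 10 ^ 11 := by
  have hsimp : IsSimpleGroup Spor.M22 := Cfsg.Agent.SporadicA.MathieuRecog.simple_M22
  have hcard : Nat.card Spor.M22 = 443520 := Cfsg.Agent.NotCT.Orders.m22 ⟨MulEquiv.refl _⟩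
  have hab : ∀ K : Subgroup Q, K ≤ A → (∀ a ∈ A, ∀ k ∈ K, a * k * a⁻¹ ∈ K) → (∀ a ∈ K, ∀ b ∈ K, a * b = b * a) →
      K = ⊥ := fun K h1 h2 h3 => hs.no_abelian hsimp (notcomm hsimp (by rw [hcard]; norm_num)) h1 h2 h3
  have h1 := hs.card_le.trans aut_m22
  obtain ⟨k, hk⟩ := hs.card_dvd
  rw [hcard] at hk
  have hk0 : Nat.card A ≠ 0 := Nat.card_pos.ne'
  have h4 : k ≤ 2 := by omega
  interval_cases k
  · omega
  · have h5 := EPT.ncard_le_list h hg hab [(2, 7), (3, 2), (5, 1), (7, 1), (11, 1)] (by decide) (by decide) (by decide)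
      (by rw [hk]; decide)
    rw [hk, show ([(2, 7), (3, 2), (5, 1), (7, 1), (11, 1)].map fun x : ℕ × ℕ => gal x.1 x.2).sum = 29219 by decide] at h5
    exact h5.trans (by norm_num)
  · have h5 := EPT.ncard_le_list h hg hab [(2, 8), (3, 2), (5, 1), (7, 1), (11, 1)] (by decide) (by decide) (by decide)
      (by rw [hk]; decide)
    rw [hk, show ([(2, 8), (3, 2), (5, 1), (7, 1), (11, 1)].map fun x : ℕ × ℕ => gal x.1 x.2).sum = 417206 by decide] at h5
    exact h5.trans (by norm_num)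

/-- **The row `PSL₁₀(q)`, residual class.** -/
theorem row_of {Q : Type*} [Group Q] [Finite Q] {A : Subgroup Q} {Γ : Subgroup (MulAut Q)}
    (h : EPT A Γ) {F : Type*} [Field F] [Fintype F] (m : Model Q (Cfsg.Geo.specialLinear (Fin 10) F))
    (hlist : ∃ (P : Subgroup (Matrix.GeneralLinearGroup (Fin 10) F)) (p : ℕ), Cfsg.Geo.IsResidualCore (m.hat A) P ∧
      p.Prime ∧ CharP F p ∧
      ((Nonempty ((P ⧸ (Cfsg.Geo.scalars (Fin 10) F).subgroupOf P) ≃*
          Matrix.ProjectiveSpecialLinearGroup (Fin 2) (ZMod 19)) ∧ Fintype.card F = p ∧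
          (p % 19 = 1 ∨ p % 19 = 4 ∨ p % 19 = 5 ∨ p % 19 = 6 ∨ p % 19 = 7 ∨ p % 19 = 9 ∨ p % 19 = 11 ∨
            p % 19 = 16 ∨ p % 19 = 17)) ∨
       (Cfsg.Spor.IsoM12 (P ⧸ (Cfsg.Geo.scalars (Fin 10) F).subgroupOf P) ∧ Fintype.card F = p ∧
          (p % 8 = 1 ∨ p % 8 = 3)) ∨
       (Cfsg.Spor.IsoM22 (P ⧸ (Cfsg.Geo.scalars (Fin 10) F).subgroupOf P) ∧ Fintype.card F = p ∧
          (p = 2 ∨ p % 28 = 1 ∨ p % 28 = 9 ∨ p % 28 = 25 ∨ p % 28 = 11 ∨ p % 28 = 15 ∨ p % 28 = 23)) ∨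
       (Nonempty ((P ⧸ (Cfsg.Geo.scalars (Fin 10) F).subgroupOf P) ≃* Matrix.ProjectiveSpecialLinearGroup (Fin 3) F) ∧
          5 ≤ p) ∨
       (Nonempty ((P ⧸ (Cfsg.Geo.scalars (Fin 10) F).subgroupOf P) ≃* Matrix.ProjectiveSpecialLinearGroup (Fin 4) F) ∧
          3 ≤ p) ∨
       Nonempty ((P ⧸ (Cfsg.Geo.scalars (Fin 10) F).subgroupOf P) ≃* Matrix.ProjectiveSpecialLinearGroup (Fin 5) F)))
    (r12 : HasSoc A Spor.M12 → rr A ≤ 10 ^ 11)
    (r22 : HasSoc A Spor.M22 → rr A ≤ 10 ^ 11)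
    (own3 : ∀ p : ℕ, p.Prime → CharP F p → 5 ≤ p → HasSoc A (Matrix.ProjectiveSpecialLinearGroup (Fin 3) F) → False)
    (own4 : ∀ p : ℕ, p.Prime → CharP F p → 3 ≤ p → HasSoc A (Matrix.ProjectiveSpecialLinearGroup (Fin 4) F) → False)
    (own5 : HasSoc A (Matrix.ProjectiveSpecialLinearGroup (Fin 5) F) → False) : False := by
  obtain ⟨m'⟩ := Cfsg.Agent.H117.EP.model_PSL (n := 10) (F := F) (by norm_num)
  obtain ⟨e⟩ := model_unique m m'
  have hc : Nat.card Q = Nat.card (Matrix.ProjectiveSpecialLinearGroup (Fin 10) F) := Nat.card_congr e.toEquiv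
  have hge := card_psl_ge (F := F) rfl
  rw [← hc] at hge
  obtain ⟨P, p, hP, hp, hch, h1⟩ := hlist
  have hs := hasSoc_of_core m hP
  rcases h1 with ⟨⟨f⟩, h5, h7⟩ | ⟨⟨f⟩, h5, h7⟩ | ⟨⟨f⟩, h5, h7⟩ | ⟨⟨f⟩, h6⟩ | ⟨⟨f⟩, h6⟩ | h6
  · have h8 := kill_l19 h (hs.congr f)
    have h9 : 4 ≤ p := by
      by_contra hlt
      have h10 := hp.two_le
      have : p < 4 := by omega
      interval_cases p <;> omega
    rw [h5] at hge
    have h10 : 4 ^ 90 ≤ p ^ 90 := Nat.pow_le_pow_left h9 90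
    have h11 : 4 ^ 90 ≤ 6840 ^ 13 := h10.trans (hge.trans h8)
    norm_num at h11
  · have hs' := hs.congr f
    have h8 := card_le_of_rr h (hs'.card_le.trans aut_m12) (r12 hs')
    have h9 : 3 ≤ p := by
      by_contra hlt
      have h10 := hp.two_le
      have : p < 3 := by omega
      interval_cases p
      omega
    rw [h5] at hge
    have h10 : 3 ^ 90 ≤ p ^ 90 := Nat.pow_le_pow_left h9 90
    have h11 : 3 ^ 90 ≤ 190080 * (10 ^ 11) ^ 2 := h10.trans (hge.trans h8)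
    norm_num at h11
  · have hs' := hs.congr f
    have h8 := card_le_of_rr h (hs'.card_le.trans aut_m22) (r22 hs')
    by_cases h2 : p = 2
    · rw [hc, ← card_psl_two (h5.trans h2)] at h8
      norm_num at h8
    · have h9 : 3 ≤ p := by
        have := hp.two_le
        omega
      rw [h5] at hge
      have h10 : 3 ^ 90 ≤ p ^ 90 := Nat.pow_le_pow_left h9 90
      have h11 : 3 ^ 90 ≤ 887040 * (10 ^ 11) ^ 2 := h10.trans (hge.trans h8)
      norm_num at h11
  · exact own3 p hp hch h6 (hs.congr f)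
  · exact own4 p hp hch h6 (hs.congr f)
  · obtain ⟨f⟩ := h6
    exact own5 (hs.congr f)

end Cfsg.Agent.H837.EP.L10
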