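import Cfsg.Agent.S5839
import Cfsg.Agent.H59.EP.UBFin
import Cfsg.Agent.H837.EP.L10

/-!
# S3499, layer IV, the row `PSL₁₀(q)`, residual class (helper837)
-/

set_option autoImplicit false

namespace Cfsg.Agent.H837.EP.L10Row

open Cfsg Subgroup Cfsg.Agent.H284 Cfsg.Agent.H419.EP
open scoped MatrixGroups

/-- **The row `PSL₁₀(q)`, residual class**, given the own characteristic cases. -/
theorem row {Q : Type} [Group Q] [Finite Q] (_hs : IsSimpleGroup Q) {A : Subgroup Q} {Γ : Subgroup (MulAut Q)}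
    (h : EPT A Γ) {F : Type} [Field F] [Fintype F] (m : Model Q (Cfsg.Geo.specialLinear (Fin 10) F))
    (hres : Cfsg.Geo.InLinearResidualClass (m.hat A))
    (own3 : ∀ p : ℕ, p.Prime → CharP F p → 5 ≤ p → HasSoc A (Matrix.ProjectiveSpecialLinearGroup (Fin 3) F) → False)
    (own4 : ∀ p : ℕ, p.Prime → CharP F p → 3 ≤ p → HasSoc A (Matrix.ProjectiveSpecialLinearGroup (Fin 4) F) → False)
    (own5 : HasSoc A (Matrix.ProjectiveSpecialLinearGroup (Fin 5) F) → False) : False :=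
  Cfsg.Agent.H837.EP.L10.row_of h m (Cfsg.Agent.S5839.result (m.hat A) (m.isMaximalIn h.max) hres)
    (Cfsg.Agent.H837.EP.L10.rr12 h Cfsg.Agent.H59.EP.twoGen) (Cfsg.Agent.H837.EP.L10.rr22 h Cfsg.Agent.H59.EP.twoGen)
    own3 own4 own5

end Cfsg.Agent.H837.EP.L10Row
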